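import Groth.Agent.Amp73.Pullback
import Groth.Agent.Desc59.FlatH0
import Groth.Agent.Alb96.GeomInt
import Groth.Agent.EGA73.Invertible
import Groth.Agent.Mero90.Triv

/-!
Triviality of an invertible module descends along extensions of the ground field.
-/

set_option autoImplicit false
set_option backward.isDefEq.respectTransparency false
set_option backward.isDefEq.respectTransparency.types false
set_option linter.style.haveILetI false

universe u

open CategoryTheory Limits AlgebraicGeometry TopologicalSpace Opposite TensorProduct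
open Groth.Agent.Var76.LineBundle Groth.Agent.Var76.ZeroScheme Groth.Agent.Amp73

namespace Groth.Agent.AbVar93

theorem val_eq {X : Scheme.{u}} (L : X.Modules) (s : Γ(L, ⊤)) :
    val L (EGA73.unitHom L s) ⊤ = s := by
  refine (EGA73.unitHom_app L s ⊤ 1).trans ((one_smul _ _).trans ?_)
  exact ConcreteCategory.congr_hom (L.presheaf.map_id (op ⊤)) s

theorem isFrame_of_iso_unit {X : Scheme.{u}} {L : X.Modules} (e : L ≅ Coh.structureModule X)
    (s : Γ(L, ⊤)) (h : IsUnit (show Γ(X, ⊤) from e.hom.app ⊤ s)) : IsFrame L ⊤ s := by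
  intro V hV
  have hc : IsUnit (X.presheaf.map (homOfLE hV).op (show Γ(X, ⊤) from e.hom.app ⊤ s)) := h.map _
  have hb : Function.Bijective (e.hom.app V) :=
    ConcreteCategory.bijective_of_isIso (e.hom.app V)
  refine (hb.of_comp_iff' _).1 ?_
  have : (e.hom.app V) ∘ (fun a : Γ(X, V) => a • res L hV s) =
      fun a : Γ(X, V) => (show Γ(Coh.structureModule X, V) from
        a * X.presheaf.map (homOfLE hV).op (show Γ(X, ⊤) from e.hom.app ⊤ s)) := funext fun a => by
    refine (Scheme.Modules.Hom.app_smul e.hom a _).trans ?_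
    refine congrArg (fun z : Γ(Coh.structureModule X, V) => a • z) ?_
    exact Mero90.app_res e.hom hV s
  rw [this]
  exact ⟨fun a b hab => hc.mul_left_injective hab, fun b => ⟨(show Γ(X, V) from b) * (hc.unit⁻¹ : _), by
    show (show Γ(X, V) from b) * (hc.unit⁻¹ : _) * _ = _
    rw [mul_assoc, IsUnit.val_inv_mul, mul_one]⟩⟩

/-- An invertible module on a proper geometrically integral scheme which becomes trivial after an
extension of the ground field is trivial. -/
theorem trivial_of_trivial_baseChange (K : Type u) [Field K] (V : Scheme.{u})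
    (p : V ⟶ Spec (CommRingCat.of K)) [IsProper p] [GeometricallyIntegral p]
    (L : V.Modules) (hL : PicF.IsInvertible L) (K' : Type u) [Field K'] [Algebra K K']
    (h : Nonempty ((Scheme.Modules.pullback
        (pullback.fst p (Spec.map (CommRingCat.ofHom (algebraMap K K'))))).obj L ≅
        Coh.structureModule (pullback p (Spec.map (CommRingCat.ofHom (algebraMap K K')))))) :
    Nonempty (L ≅ Coh.structureModule V) := by
  obtain ⟨e⟩ := h
  let g := Spec.map (CommRingCat.ofHom (algebraMap K K'))
  let V' := pullback p g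
  let g' : V' ⟶ V := pullback.fst p g
  let f' : V' ⟶ Spec (CommRingCat.of K') := pullback.snd p g
  have : Flat g := (HasRingHomProperty.Spec_iff (P := @Flat)).2
    (RingHom.flat_algebraMap_iff.2 (Module.Flat.of_free : Module.Flat K K'))
  have : Surjective g := ⟨fun y => ⟨IsLocalRing.closedPoint K', Subsingleton.elim _ _⟩⟩
  have : GeometricallyIntegral f' :=
    MorphismProperty.pullback_snd (P := @GeometricallyIntegral) _ _ inferInstance
  have : IsProper f' := MorphismProperty.pullback_snd (P := @IsProper) _ _ inferInstance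
  have hA : Function.Bijective ((Scheme.ΓSpecIso (CommRingCat.of K')).inv ≫ f'.appTop).hom :=
    haveI : IsProper (Over.mk f').hom := ‹IsProper f'›
    haveI : GeometricallyIntegral (Over.mk f').hom := ‹GeometricallyIntegral f'›
    Alb96.antiAffine_of_geometricallyIntegral (Over.mk f')
  have : CompactSpace V := QuasiCompact.compactSpace_of_compactSpace p
  have : QuasiSeparatedSpace V := by
    exact quasiSeparatedSpace_of_quasiSeparated p
  have : IsIntegral V' := GeometricallyIntegral.isIntegral_of_subsingleton f'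
  let t : Γ((Scheme.Modules.pullback g').obj L, g' ⁻¹ᵁ ⊤) :=
    e.inv.app ⊤ (show Γ(Coh.structureModule V', ⊤) from (1 : Γ(V', ⊤)))
  have : L.IsQuasicoherent := Mero90.isQCoh_of_isInvertible hL
  obtain ⟨z, hz⟩ := Desc59.FlatH0.exists_eq_μ p f' g' L (IsPullback.of_hasPullback p g) t
  have he : e.hom.app ⊤ t = (show Γ(Coh.structureModule V', ⊤) from (1 : Γ(V', ⊤))) :=
    ConcreteCategory.congr_hom (congrArg (fun k => Scheme.Modules.Hom.app k ⊤) e.inv_hom_id) _
  have hex : ∃ s : Γ(L, ⊤), e.hom.app ⊤ (pullS g' L ⊤ s) ≠ 0 := by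
    by_contra hne
    simp only [not_exists, not_not] at hne
    have h0 : ∀ w, e.hom.app ⊤ (Desc59.FlatH0.μ p g f' g' L (IsPullback.of_hasPullback p g) ⊤ w) = 0 := by
      letI := Desc59.FlatH0.baseModule p L ⊤
      letI := g.appTop.hom.toAlgebra
      intro w
      induction w using TensorProduct.induction_on with
      | zero => exact (congrArg (e.hom.app ⊤) (map_zero _)).trans (map_zero (e.hom.app ⊤).hom)
      | tmul a x =>
        refine (Scheme.Modules.Hom.app_smul e.hom (f'.appLE ⊤ (g' ⁻¹ᵁ ⊤) le_top a) (pullS g' L ⊤ x)).trans ?_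
        exact (congrArg (fun z : Γ(Coh.structureModule V', g' ⁻¹ᵁ ⊤) => f'.appLE ⊤ (g' ⁻¹ᵁ ⊤) le_top a • z)
          (hne x)).trans (smul_zero _)
      | add a b ha hb =>
        rw [map_add]
        exact (map_add (e.hom.app ⊤).hom _ _).trans (by rw [ha, hb, add_zero])
    have h10 := (h0 z).symm.trans ((congrArg (e.hom.app ⊤) hz).trans he)
    exact one_ne_zero (show (1 : Γ(V', ⊤)) = 0 from h10.symm)
  obtain ⟨s, hs⟩ := hex
  obtain ⟨c, hc⟩ := hA.2 (show Γ(V', ⊤) from e.hom.app ⊤ (pullS g' L ⊤ s))
  have hu : IsUnit (show Γ(V', ⊤) from e.hom.app ⊤ (pullS g' L ⊤ s)) := by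
    rw [← hc]
    refine (isUnit_iff_ne_zero.2 fun hc0 => hs ?_).map _
    exact hc.symm.trans (by rw [hc0, map_zero])
  let φ := EGA73.unitHom L s
  have hv : val _ (pullHom g' φ) ⊤ = pullS g' L ⊤ s :=
    (val_pullHom g' φ ⊤).trans (congrArg (pullS g' L ⊤) (val_eq L s))
  have hF : IsFrame _ ⊤ (val _ (pullHom g' φ) ⊤) := by
    rw [hv]
    exact isFrame_of_iso_unit e _ hu
  have htop : (⊤ : V.Opens) ≤ CohB1.genLocus L φ := fun x _ => by
    have : Surjective g' := MorphismProperty.pullback_fst (P := @Surjective) _ _ inferInstance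
    obtain ⟨x', rfl⟩ := g'.surjective x
    have hx : x' ∈ CohB1.genLocus _ (pullHom g' φ) := (isFrame_iff_le_genLocus _ _).1 hF trivial
    rw [genLocus_pullHom g' hL φ] at hx
    exact hx
  have : IsIso φ := by
    rw [Scheme.Modules.Hom.isIso_iff_isIso_app]
    intro W
    refine (ConcreteCategory.isIso_iff_bijective _).2 ?_
    have := (isFrame_iff_le_genLocus φ ⊤).2 htop W le_top
    rw [val_eq] at this
    exact this
  exact ⟨(asIso φ).symm⟩

end Groth.Agent.AbVar93
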